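import Groth.Agent.L24.DescHom.Mate

/-!
# Comparison isomorphisms along equal composites
-/

set_option autoImplicit false
set_option backward.isDefEq.respectTransparency false
set_option backward.isDefEq.respectTransparency.types false

universe u

open CategoryTheory AlgebraicGeometry Scheme.Modules

namespace Groth.L24.DescHom

variable {W X S : Scheme.{u}} (f : W ⟶ X) (g : X ⟶ S) {M N : S.Modules}

theorem pullComp_eq {h : W ⟶ S} (e : h = f ≫ g) (a : (pullback g).obj M ⟶ (pullback g).obj N) :
    pullComp f g e.symm a = (pullbackCongr e).hom.app M ≫ (pullbackComp f g).inv.app M ≫ (pullback f).map a ≫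
      (pullbackComp f g).hom.app N ≫ (pullbackCongr e).inv.app N := by
  subst e
  simp [pullComp_self, pullbackCongr]

end Groth.L24.DescHom
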