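import Groth.Agent.L17.PullBasis
import Mathlib.AlgebraicGeometry.Modules.Sheaf

/-!
# Comparing pullbacks of sections along a composite
-/

set_option autoImplicit false
set_option linter.style.haveILetI false
set_option backward.isDefEq.respectTransparency false
set_option backward.isDefEq.respectTransparency.types false

universe u

open CategoryTheory AlgebraicGeometry Scheme.Modules

noncomputable section

namespace Groth.L24.DescHom

variable {W X S : Scheme.{u}}

/-- Units of composites. -/
theorem unit_comp (f : W ⟶ X) (g : X ⟶ S) (N : S.Modules) :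
    (pullbackPushforwardAdjunction g).unit.app N ≫
      (pushforward g).map ((pullbackPushforwardAdjunction f).unit.app ((pullback g).obj N)) ≫
        (pushforwardComp f g).hom.app _ =
      (pullbackPushforwardAdjunction (f ≫ g)).unit.app N ≫
        (pushforward (f ≫ g)).map ((pullbackComp f g).inv.app N) := by
  rw [← conjugateEquiv_pullbackComp_inv f g]
  have h := unit_conjugateEquiv ((pullbackPushforwardAdjunction g).comp (pullbackPushforwardAdjunction f))
    (pullbackPushforwardAdjunction (f ≫ g)) (pullbackComp f g).inv N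
  rw [Adjunction.comp_unit_app] at h
  simpa [Category.assoc] using h

variable (f : W ⟶ X) (g : X ⟶ S) {h : W ⟶ S} (e : f ≫ g = h) (N : S.Modules)

/-- Pullback of sections along a factor of `h = f ≫ g`. -/
def toComp : (pushforward g).obj ((pullback g).obj N) ⟶ (pushforward h).obj ((pullback h).obj N) :=
  e ▸ ((pushforward g).map ((pullbackPushforwardAdjunction f).unit.app ((pullback g).obj N)) ≫
    (pushforwardComp f g).hom.app _ ≫ (pushforward (f ≫ g)).map ((pullbackComp f g).hom.app N))

theorem unit_toComp :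
    (pullbackPushforwardAdjunction g).unit.app N ≫ toComp f g e N =
      (pullbackPushforwardAdjunction h).unit.app N := by
  subst e
  change _ ≫ _ ≫ _ ≫ _ = _
  rw [← Category.assoc ((pushforward g).map _), ← Category.assoc, unit_comp]
  rw [Category.assoc, ← Functor.map_comp, Iso.inv_hom_id_app, CategoryTheory.Functor.map_id]
  exact Category.comp_id _

variable {N} {M : S.Modules}

/-- A map of pullbacks along `g`, pulled back along `f`. -/
def pullComp (a : (pullback g).obj M ⟶ (pullback g).obj N) : (pullback h).obj M ⟶ (pullback h).obj N :=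
  e ▸ ((pullbackComp f g).inv.app M ≫ (pullback f).map a ≫ (pullbackComp f g).hom.app N)

theorem unit_map_toComp (a : (pullback g).obj M ⟶ (pullback g).obj N) :
    (pullbackPushforwardAdjunction g).unit.app M ≫ (pushforward g).map a ≫ toComp f g e N =
      (pullbackPushforwardAdjunction h).unit.app M ≫ (pushforward h).map (pullComp f g e a) := by
  subst e
  change _ ≫ _ ≫ _ ≫ _ ≫ _ = _ ≫ (pushforward (f ≫ g)).map (_ ≫ _ ≫ _)
  rw [Functor.map_comp, Functor.map_comp, ← reassoc_of% (unit_comp f g M)]
  have h0 := (pullbackPushforwardAdjunction f).unit.naturality a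
  have h1 := (pushforwardComp f g).hom.naturality ((pullback f).map a)
  simp only [Functor.id_map, Functor.comp_map] at h0 h1
  rw [← Functor.map_comp_assoc, h0, Functor.map_comp_assoc, reassoc_of% h1]

theorem pullComp_congr (e' : f ≫ g = h) {h' : W ⟶ S} (w : h = h') (e'' : f ≫ g = h')
    (a : (pullback g).obj M ⟶ (pullback g).obj N) :
    pullComp f g e' a ≫ (pullbackCongr w).hom.app N = (pullbackCongr w).hom.app M ≫ pullComp f g e'' a := by
  subst w
  simp [pullbackCongr]

theorem pullComp_self (a : (pullback g).obj M ⟶ (pullback g).obj N) :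
    pullComp f g rfl a = (pullbackComp f g).inv.app M ≫ (pullback f).map a ≫ (pullbackComp f g).hom.app N := rfl

theorem app_toComp_smul (U : S.Opens) (le : h ⁻¹ᵁ U ≤ f ⁻¹ᵁ (g ⁻¹ᵁ U)) (r : Γ(X, g ⁻¹ᵁ U))
    (x : Γ((pullback g).obj N, g ⁻¹ᵁ U)) :
    ((toComp f g e N).app U (show Γ((pushforward g).obj ((pullback g).obj N), U) from r • x) :
        Γ((pullback h).obj N, h ⁻¹ᵁ U)) =
      f.appLE (g ⁻¹ᵁ U) (h ⁻¹ᵁ U) le r •
        (show Γ((pullback h).obj N, h ⁻¹ᵁ U) from (toComp f g e N).app U x) := by
  subst e
  have e1 : f.appLE (g ⁻¹ᵁ U) ((f ≫ g) ⁻¹ᵁ U) le = f.app (g ⁻¹ᵁ U) := (Scheme.Hom.app_eq_appLE f).symm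
  rw [e1]
  show ((pullbackComp f g).hom.app N).app ((f ≫ g) ⁻¹ᵁ U)
      (((pullbackPushforwardAdjunction f).unit.app ((pullback g).obj N)).app (g ⁻¹ᵁ U) (r • x)) = _
  rw [Scheme.Modules.Hom.app_smul]
  exact Scheme.Modules.Hom.app_smul _ _ _

end Groth.L24.DescHom
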