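import Groth.Agent.L24.DescHom.Mate
import Groth.Prelude.Def_FlatMod2

/-!
# Homomorphisms of finite locally free modules glued along a square exact on structure sheaves
-/

set_option autoImplicit false
set_option linter.style.haveILetI false
set_option backward.isDefEq.respectTransparency false
set_option backward.isDefEq.respectTransparency.types false

universe u

open CategoryTheory AlgebraicGeometry Scheme.Modules Opposite TopologicalSpace

noncomputable section

namespace Groth.L24.DescHom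

open Groth.L00.Tensor

variable {T : Scheme.{u}}

/-- Restriction of sections of a module. -/
abbrev resM {A : Scheme.{u}} (M : A.Modules) {U V : A.Opens} (h : V ≤ U) (x : Γ(M, U)) : Γ(M, V) :=
  M.presheaf.map (homOfLE h).op x

/-- The unit on sections. -/
abbrev η {A : Scheme.{u}} (g : A ⟶ T) (N : T.Modules) (U : T.Opens) (m : Γ(N, U)) :
    Γ((pullback g).obj N, g ⁻¹ᵁ U) :=
  ((pullbackPushforwardAdjunction g).unit.app N).app U m

theorem exists_frame (N : T.Modules) (hN : FlatMod.IsFinLocFree N) (U : T.Opens) (x : T) (hx : x ∈ U) :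
    ∃ (W : T.Opens) (_ : W ≤ U) (n : ℕ) (m : Fin n → Γ(N, W)), x ∈ W ∧
      (Function.Bijective fun r : Fin n → Γ(T, W) => ∑ j, r j • m j) ∧
      ∀ {A : Scheme.{u}} (g : A ⟶ T),
        Function.Bijective fun a : Fin n → Γ(A, g ⁻¹ᵁ W) => ∑ j, a j • η g N W (m j) := by
  obtain ⟨U₀, n, hx₀, ⟨e⟩⟩ := hN x
  obtain ⟨s, hs⟩ := Groth.L17.FinLocBases.exists_isBasis N e
  let W := U₀.ι ''ᵁ ⊤ ⊓ U
  let m : Fin n → Γ(N, W) := fun j => N.presheaf.map (homOfLE (inf_le_left : W ≤ U₀.ι ''ᵁ ⊤)).op (s j)
  have hs' := hs.res (homOfLE inf_le_left : W ⟶ U₀.ι ''ᵁ ⊤)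
  refine ⟨W, inf_le_right, n, m, ⟨?_, hx⟩, ?_, fun {A} g => ?_⟩
  · rw [Scheme.Hom.image_top_eq_opensRange, Scheme.Opens.opensRange_ι]; exact hx₀
  · have := hs' W (𝟙 W)
    simp only [Groth.L17.LocBases.res_id] at this
    exact this
  · have := (Groth.L17.PullBasis.isBasis_pullback g N _ hs') (g ⁻¹ᵁ W) (𝟙 _)
    simp only [Groth.L17.LocBases.res_id] at this
    exact this

variable {X Y Z : Scheme.{u}} (gX : X ⟶ T) (gY : Y ⟶ T) (fX : Z ⟶ X) (fY : Z ⟶ Y) {h : Z ⟶ T}
  (eX : fX ≫ gX = h) (eY : fY ≫ gY = h)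

/-- The square is exact on structure sheaves. -/
structure Exact' : Prop where
  inj : ∀ (U : T.Opens) (r : Γ(T, U)), gX.app U r = 0 → gY.app U r = 0 → r = 0
  glue : ∀ (U : T.Opens) (a : Γ(X, gX ⁻¹ᵁ U)) (b : Γ(Y, gY ⁻¹ᵁ U)),
    fX.appLE (gX ⁻¹ᵁ U) (h ⁻¹ᵁ U) (by subst eX; exact le_rfl) a =
      fY.appLE (gY ⁻¹ᵁ U) (h ⁻¹ᵁ U) (by subst eY; exact le_rfl) b →
    ∃ r, gX.app U r = a ∧ gY.app U r = b

variable {gX gY fX fY eX eY} (H : Exact' gX gY fX fY eX eY) (N : T.Modules) (hN : FlatMod.IsFinLocFree N)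
include H hN

theorem eq_zero_of_units (U : T.Opens) (n : Γ(N, U)) (h1 : η gX N U n = 0) (h2 : η gY N U n = 0) : n = 0 := by
  choose W hW k m hxW hb hg using fun x : U => exists_frame N hN U x.1 x.2
  refine TopCat.Sheaf.eq_of_locally_eq' ⟨N.presheaf, N.isSheaf⟩ W U (fun x => homOfLE (hW x))
    (fun y hy => Opens.mem_iSup.2 ⟨⟨y, hy⟩, hxW ⟨y, hy⟩⟩) n 0 fun x => ?_
  show resM N (hW x) n = resM N (hW x) 0
  obtain ⟨r, hr⟩ := (hb x).2 (resM N (hW x) n)
  have key : ∀ {A : Scheme.{u}} (g : A ⟶ T), η g N U n = 0 → ∀ j, g.app (W x) (r j) = 0 := by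
    intro A g h0
    have hz : η g N (W x) (resM N (hW x) n) = 0 := by
      have := PresheafOfModules.naturality_apply ((pullbackPushforwardAdjunction g).unit.app N).val
        (homOfLE (hW x)).op n
      exact this.trans ((congrArg _ h0).trans (map_zero _))
    have h3 : (∑ j, g.app (W x) (r j) • η g N (W x) (m x j)) = 0 := by
      refine Eq.trans ?_ hz
      refine Eq.trans ?_ (congrArg (η g N (W x)) hr)
      refine Eq.trans ?_ (map_sum (((pullbackPushforwardAdjunction g).unit.app N).app (W x)).hom _ _).symm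
      exact Finset.sum_congr rfl fun j _ =>
        (Scheme.Modules.Hom.app_smul ((pullbackPushforwardAdjunction g).unit.app N) (r j) (m x j)).symm
    have h4 := (hg x g).1 (a₁ := fun j => g.app (W x) (r j)) (a₂ := 0) (h3.trans (by simp))
    exact fun j => congrFun h4 j
  have hr0 : r = 0 := funext fun j => H.inj _ _ (key gX h1 j) (key gY h2 j)
  refine Eq.trans ?_ (map_zero (N.presheaf.map (homOfLE (hW x)).op).hom).symm
  rw [← hr, hr0]
  simp

theorem exists_of_units (U : T.Opens) (tX : Γ((pullback gX).obj N, gX ⁻¹ᵁ U))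
    (tY : Γ((pullback gY).obj N, gY ⁻¹ᵁ U))
    (ht : (show Γ((pullback h).obj N, h ⁻¹ᵁ U) from (toComp fX gX eX N).app U tX) =
      (toComp fY gY eY N).app U tY) :
    ∃ n : Γ(N, U), η gX N U n = tX ∧ η gY N U n = tY := by
  choose W hW k m hxW hb hg using fun x : U => exists_frame N hN U x.1 x.2
  have leX : ∀ x, h ⁻¹ᵁ W x ≤ fX ⁻¹ᵁ (gX ⁻¹ᵁ W x) := fun x => by subst eX; exact le_rfl
  have leY : ∀ x, h ⁻¹ᵁ W x ≤ fY ⁻¹ᵁ (gY ⁻¹ᵁ W x) := fun x => by subst eY; exact le_rfl
  have natη : ∀ {A : Scheme.{u}} (g : A ⟶ T) {V V' : T.Opens} (hV : V' ≤ V) (q : Γ(N, V)),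
      η g N V' (resM N hV q) = resM ((pullback g).obj N) (g.preimage_mono hV) (η g N V q) :=
    fun g _ _ hV q => PresheafOfModules.naturality_apply ((pullbackPushforwardAdjunction g).unit.app N).val
      (homOfLE hV).op q
  have hloc : ∀ x : U, ∃ n : Γ(N, W x), η gX N (W x) n = resM _ (gX.preimage_mono (hW x)) tX ∧
      η gY N (W x) n = resM _ (gY.preimage_mono (hW x)) tY := by
    intro x
    obtain ⟨a, ha⟩ := (hg x gX).2 (resM ((pullback gX).obj N) (gX.preimage_mono (hW x)) tX)
    obtain ⟨b, hb'⟩ := (hg x gY).2 (resM ((pullback gY).obj N) (gY.preimage_mono (hW x)) tY)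
    have side : ∀ {A : Scheme.{u}} (g : A ⟶ T) (f : Z ⟶ A) (e : f ≫ g = h) (le : h ⁻¹ᵁ W x ≤ f ⁻¹ᵁ (g ⁻¹ᵁ W x))
        (t : Γ((pullback g).obj N, g ⁻¹ᵁ U)) (c : Fin (k x) → Γ(A, g ⁻¹ᵁ W x)),
        (∑ j, c j • η g N (W x) (m x j)) = resM ((pullback g).obj N) (g.preimage_mono (hW x)) t →
        (∑ j, f.appLE (g ⁻¹ᵁ W x) (h ⁻¹ᵁ W x) le (c j) • η h N (W x) (m x j)) =
          resM ((pullback h).obj N) (h.preimage_mono (hW x)) ((toComp f g e N).app U t) := by
      intro A g f e le t c hc
      have hn := PresheafOfModules.naturality_apply (toComp f g e N).val (homOfLE (hW x)).op t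
      refine Eq.trans ?_ hn
      refine Eq.trans ?_ (congrArg ((toComp f g e N).app (W x)) hc)
      refine Eq.trans ?_ (map_sum ((toComp f g e N).app (W x)).hom _ _).symm
      refine Finset.sum_congr rfl fun j _ => ?_
      refine Eq.trans ?_ (app_toComp_smul f g e (N := N) (W x) le (c j) _).symm
      exact congrArg (_ • ·) (congr($(unit_toComp f g e N).app (W x) (m x j))).symm
    have hab := (hg x h).1 (((side gX fX eX (leX x) tX a ha).trans (congrArg _ ht)).trans
      (side gY fY eY (leY x) tY b hb').symm)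
    choose r hrX hrY using fun j => H.glue (W x) (a j) (b j) (congrFun hab j)
    refine ⟨∑ j, r j • m x j, ?_, ?_⟩
    · refine Eq.trans ?_ ha
      refine (map_sum (((pullbackPushforwardAdjunction gX).unit.app N).app (W x)).hom _ _).trans ?_
      exact Finset.sum_congr rfl fun j _ =>
        (Scheme.Modules.Hom.app_smul ((pullbackPushforwardAdjunction gX).unit.app N) (r j) (m x j)).trans
          (congrArg (fun z : Γ(X, gX ⁻¹ᵁ W x) => z • η gX N (W x) (m x j)) (hrX j))
    · refine Eq.trans ?_ hb'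
      refine (map_sum (((pullbackPushforwardAdjunction gY).unit.app N).app (W x)).hom _ _).trans ?_
      exact Finset.sum_congr rfl fun j _ =>
        (Scheme.Modules.Hom.app_smul ((pullbackPushforwardAdjunction gY).unit.app N) (r j) (m x j)).trans
          (congrArg (fun z : Γ(Y, gY ⁻¹ᵁ W x) => z • η gY N (W x) (m x j)) (hrY j))
  choose n hnX hnY using hloc
  have compat : TopCat.Presheaf.IsCompatible N.presheaf W fun x => n x := fun x y => by
    refine sub_eq_zero.1 (eq_zero_of_units H N hN (W x ⊓ W y) _ ?_ ?_)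
    · refine (map_sub (((pullbackPushforwardAdjunction gX).unit.app N).app (W x ⊓ W y)).hom _ _).trans
        (sub_eq_zero.2 ?_)
      refine ((natη gX inf_le_left (n x)).trans (congrArg _ (hnX x))).trans
        (Eq.trans ?_ ((natη gX inf_le_right (n y)).trans (congrArg _ (hnX y))).symm)
      simp only [resM, ← ConcreteCategory.comp_apply, ← Functor.map_comp]
      rfl
    · refine (map_sub (((pullbackPushforwardAdjunction gY).unit.app N).app (W x ⊓ W y)).hom _ _).trans
        (sub_eq_zero.2 ?_)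
      refine ((natη gY inf_le_left (n x)).trans (congrArg _ (hnY x))).trans
        (Eq.trans ?_ ((natη gY inf_le_right (n y)).trans (congrArg _ (hnY y))).symm)
      simp only [resM, ← ConcreteCategory.comp_apply, ← Functor.map_comp]
      rfl
  have hcov : U ≤ iSup W := fun y hy => Opens.mem_iSup.2 ⟨⟨y, hy⟩, hxW ⟨y, hy⟩⟩
  obtain ⟨q, hq, -⟩ := TopCat.Sheaf.existsUnique_gluing' ⟨N.presheaf, N.isSheaf⟩ W U (fun x => homOfLE (hW x))
    hcov n compat
  refine ⟨q, ?_, ?_⟩
  · refine TopCat.Sheaf.eq_of_locally_eq' ⟨((pullback gX).obj N).presheaf, ((pullback gX).obj N).isSheaf⟩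
      (fun x => gX ⁻¹ᵁ W x) _ (fun x => homOfLE (gX.preimage_mono (hW x)))
      (fun y hy => Opens.mem_iSup.2 ⟨⟨gX y, hy⟩, hxW ⟨gX y, hy⟩⟩) _ _ fun x => ?_
    exact (natη gX (hW x) q).symm.trans ((congrArg _ (hq x)).trans (hnX x))
  · refine TopCat.Sheaf.eq_of_locally_eq' ⟨((pullback gY).obj N).presheaf, ((pullback gY).obj N).isSheaf⟩
      (fun x => gY ⁻¹ᵁ W x) _ (fun x => homOfLE (gY.preimage_mono (hW x)))
      (fun y hy => Opens.mem_iSup.2 ⟨⟨gY y, hy⟩, hxW ⟨gY y, hy⟩⟩) _ _ fun x => ?_
    exact (natη gY (hW x) q).symm.trans ((congrArg _ (hq x)).trans (hnY x))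

theorem hom_ext {M : T.Modules} (φ ψ : M ⟶ N) (hX : (pullback gX).map φ = (pullback gX).map ψ)
    (hY : (pullback gY).map φ = (pullback gY).map ψ) : φ = ψ := by
  have key : ∀ {A : Scheme.{u}} (g : A ⟶ T), (pullback g).map φ = (pullback g).map ψ →
      φ ≫ (pullbackPushforwardAdjunction g).unit.app N = ψ ≫ (pullbackPushforwardAdjunction g).unit.app N := by
    intro A g hg
    have h1 := (pullbackPushforwardAdjunction g).unit.naturality φ
    have h2 := (pullbackPushforwardAdjunction g).unit.naturality ψ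
    simp only [Functor.id_map, Functor.comp_map] at h1 h2
    rw [h1, h2, hg]
  refine Scheme.Modules.hom_ext _ _ fun U => ?_
  ext s
  refine sub_eq_zero.1 (eq_zero_of_units H N hN U _ ?_ ?_)
  · exact (map_sub (((pullbackPushforwardAdjunction gX).unit.app N).app U).hom _ _).trans
      (sub_eq_zero.2 congr($(key gX hX).app U s))
  · exact (map_sub (((pullbackPushforwardAdjunction gY).unit.app N).app U).hom _ _).trans
      (sub_eq_zero.2 congr($(key gY hY).app U s))

/-- Homomorphisms agreeing after pullback to `Z` come from `T`. -/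
theorem exists_hom {M : T.Modules} (a : (pullback gX).obj M ⟶ (pullback gX).obj N)
    (b : (pullback gY).obj M ⟶ (pullback gY).obj N) (hab : pullComp fX gX eX a = pullComp fY gY eY b) :
    ∃ φ : M ⟶ N, (pullback gX).map φ = a ∧ (pullback gY).map φ = b := by
  let a' := (pullbackPushforwardAdjunction gX).unit.app M ≫ (pushforward gX).map a
  let b' := (pullbackPushforwardAdjunction gY).unit.app M ≫ (pushforward gY).map b
  have hc : a' ≫ toComp fX gX eX N = b' ≫ toComp fY gY eY N := by
    simp only [a', b', Category.assoc]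
    rw [unit_map_toComp, unit_map_toComp, hab]
  have hsec : ∀ (U : (Opens T)ᵒᵖ) (s : Γ(M, U.unop)), ∃! n : Γ(N, U.unop),
      η gX N U.unop n = a'.app U.unop s ∧ η gY N U.unop n = b'.app U.unop s := fun U s => by
    obtain ⟨n, h1, h2⟩ := exists_of_units H N hN U.unop (a'.app U.unop s) (b'.app U.unop s)
      congr($(hc).app U.unop s)
    refine ⟨n, ⟨h1, h2⟩, fun n' hn' => sub_eq_zero.1 (eq_zero_of_units H N hN U.unop _ ?_ ?_)⟩
    · exact (map_sub (((pullbackPushforwardAdjunction gX).unit.app N).app U.unop).hom _ _).trans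
        (sub_eq_zero.2 (hn'.1.trans h1.symm))
    · exact (map_sub (((pullbackPushforwardAdjunction gY).unit.app N).app U.unop).hom _ _).trans
        (sub_eq_zero.2 (hn'.2.trans h2.symm))
  choose γ hγ hγu using hsec
  let uX := (pullbackPushforwardAdjunction gX).unit.app N
  let uY := (pullbackPushforwardAdjunction gY).unit.app N
  let φ₀ : M.presheaf ⟶ N.presheaf :=
    { app := fun U => AddCommGrpCat.ofHom (AddMonoidHom.mk' (γ U) fun s t => (hγu U (s + t) _
        ⟨(map_add (uX.app U.unop).hom _ _).trans ((congrArg₂ (· + ·) (hγ U s).1 (hγ U t).1).trans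
            (map_add (a'.app U.unop).hom s t).symm),
          (map_add (uY.app U.unop).hom _ _).trans ((congrArg₂ (· + ·) (hγ U s).2 (hγ U t).2).trans
            (map_add (b'.app U.unop).hom s t).symm)⟩).symm)
      naturality := fun U V i => by
        ext s
        refine (hγu V _ _ ⟨?_, ?_⟩).symm
        · exact (PresheafOfModules.naturality_apply uX.val i (γ U s)).trans
            ((congrArg _ (hγ U s).1).trans (PresheafOfModules.naturality_apply a'.val i s).symm)
        · exact (PresheafOfModules.naturality_apply uY.val i (γ U s)).trans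
            ((congrArg _ (hγ U s).2).trans (PresheafOfModules.naturality_apply b'.val i s).symm) }
  let φ : M ⟶ N := ⟨PresheafOfModules.homMk φ₀ fun U (r : Γ(T, U.unop)) s => (hγu U _ _
    ⟨(Scheme.Modules.Hom.app_smul uX r _).trans ((congrArg (fun z : Γ((pushforward gX).obj ((pullback gX).obj N), U.unop) => r • z) (hγ U s).1).trans
        (Scheme.Modules.Hom.app_smul a' r s).symm),
      (Scheme.Modules.Hom.app_smul uY r _).trans ((congrArg (fun z : Γ((pushforward gY).obj ((pullback gY).obj N), U.unop) => r • z) (hγ U s).2).trans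
        (Scheme.Modules.Hom.app_smul b' r s).symm)⟩).symm⟩
  have e1 : φ ≫ uX = a' := by
    refine Scheme.Modules.hom_ext _ _ fun U => ?_
    ext s
    exact (hγ (op U) s).1
  have e2 : φ ≫ uY = b' := by
    refine Scheme.Modules.hom_ext _ _ fun U => ?_
    ext s
    exact (hγ (op U) s).2
  refine ⟨φ, ?_, ?_⟩
  · apply ((pullbackPushforwardAdjunction gX).homEquiv _ _).injective
    rw [Adjunction.homEquiv_unit, Adjunction.homEquiv_unit]
    have h1 := (pullbackPushforwardAdjunction gX).unit.naturality φ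
    simp only [Functor.id_map, Functor.comp_map] at h1
    rw [← h1]
    exact e1
  · apply ((pullbackPushforwardAdjunction gY).homEquiv _ _).injective
    rw [Adjunction.homEquiv_unit, Adjunction.homEquiv_unit]
    have h1 := (pullbackPushforwardAdjunction gY).unit.naturality φ
    simp only [Functor.id_map, Functor.comp_map] at h1
    rw [← h1]
    exact e2

end Groth.L24.DescHom
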