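import Groth.Agent.L24.DescHom.Pair
import Mathlib.Geometry.RingedSpace.LocallyRingedSpace.HasColimits
import Mathlib.CategoryTheory.Limits.Shapes.Pullback.IsPullback.Basic
import Mathlib.Algebra.MvPolynomial.CommRing

/-!
# A pushout of ringed spaces is exact on structure sheaves
-/

set_option autoImplicit false
set_option linter.style.haveILetI false
set_option backward.isDefEq.respectTransparency false
set_option backward.isDefEq.respectTransparency.types false

universe u

open CategoryTheory CategoryTheory.Limits AlgebraicGeometry Opposite TopologicalSpace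

noncomputable section

namespace Groth.L24.DescHom

variable {T : Scheme.{u}}

/-- The test ring. -/
abbrev TRing : Type u := MvPolynomial PUnit.{u + 1} (ULift.{u} ℤ)

/-- Polynomials allowed over `V`: all inside `U`, the constants otherwise. -/
def testSub (U V : T.Opens) : Subring (TRing.{u}) :=
  { carrier := {p | V ≤ U ∨ p ∈ (MvPolynomial.C : ULift.{u} ℤ →+* TRing.{u}).range}
    mul_mem' := fun hp hq => hp.elim Or.inl fun hp => hq.elim Or.inl fun hq => .inr (mul_mem hp hq)
    one_mem' := .inr (one_mem _)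
    add_mem' := fun hp hq => hp.elim Or.inl fun hp => hq.elim Or.inl fun hq => .inr (add_mem hp hq)
    zero_mem' := .inr (zero_mem _)
    neg_mem' := fun hp => hp.elim Or.inl fun hp => .inr (neg_mem hp) }

theorem testSub_mono {U V V' : T.Opens} (h : V' ≤ V) : testSub U V ≤ testSub U V' :=
  fun _ hp => hp.elim (fun hp => .inl (h.trans hp)) Or.inr

/-- The test presheafed space. -/
def test (U : T.Opens) : PresheafedSpace.{_, _, u} CommRingCat.{u} where
  carrier := T.toPresheafedSpace.carrier
  presheaf :=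
    { obj := fun V => CommRingCat.of (testSub U V.unop)
      map := fun i => CommRingCat.ofHom (Subring.inclusion (testSub_mono i.unop.le))
      map_id := fun _ => rfl
      map_comp := fun _ _ => rfl }

variable {A B : Scheme.{u}}

/-- Evaluation at a section over the preimage of `U`. -/
def evalAt (g : A ⟶ T) (U : T.Opens) (a : Γ(A, g ⁻¹ᵁ U)) (V : T.Opens) :
    testSub U V →+* Γ(A, g ⁻¹ᵁ V) :=
  open Classical in
  (MvPolynomial.eval₂Hom ((Int.castRingHom _).comp (ULift.ringEquiv.toRingHom))
    (fun _ => if h : V ≤ U then A.presheaf.map (homOfLE (g.preimage_mono h)).op a else 0)).comp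
    (testSub U V).subtype

theorem evalAt_natural (g : A ⟶ T) (U : T.Opens) (a : Γ(A, g ⁻¹ᵁ U)) {V V' : T.Opens} (h : V' ≤ V) :
    (evalAt g U a V').comp (Subring.inclusion (testSub_mono h)) =
      (A.presheaf.map (homOfLE (g.preimage_mono h)).op).hom.comp (evalAt g U a V) := by
  classical
  refine RingHom.ext fun ⟨p, hp⟩ => ?_
  rcases hp with hVU | ⟨n, rfl⟩
  · simp only [evalAt, RingHom.comp_apply, Subring.subtype_apply, Subring.coe_inclusion,
      dif_pos (h.trans hVU), dif_pos hVU]
    rw [← RingHom.comp_apply, MvPolynomial.comp_eval₂Hom]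
    refine congrArg (fun F : TRing.{u} →+* Γ(A, g ⁻¹ᵁ V') => F p) ?_
    refine congr_arg₂ MvPolynomial.eval₂Hom (RingHom.ext fun n => by simp) (funext fun _ => ?_)
    rw [← CommRingCat.comp_apply, ← Functor.map_comp]
    rfl
  · simp [evalAt]

/-- The map to the test space given by a section. -/
def toTest (g : A ⟶ T) (U : T.Opens) (a : Γ(A, g ⁻¹ᵁ U)) : A.toPresheafedSpace ⟶ test U where
  base := g.base
  c :=
    { app := fun V => CommRingCat.ofHom (evalAt g U a V.unop)
      naturality := fun V V' i => CommRingCat.hom_ext (evalAt_natural g U a i.unop.le) }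

theorem comp_toTest (f : B ⟶ A) (g : A ⟶ T) (U : T.Opens) (a : Γ(A, g ⁻¹ᵁ U)) :
    f.toPshHom ≫ toTest g U a = toTest (f ≫ g) U (f.app (g ⁻¹ᵁ U) a) := by
  classical
  refine PresheafedSpace.ext _ _ rfl (NatTrans.ext (funext fun V => ?_))
  show (CommRingCat.ofHom (evalAt g U a V.unop) ≫ f.app (g ⁻¹ᵁ V.unop)) ≫
    B.presheaf.map (eqToHom (rfl : op ((f ≫ g) ⁻¹ᵁ V.unop) = _)) = _
  refine CommRingCat.hom_ext (RingHom.ext fun ⟨p, hp⟩ => ?_)
  simp only [eqToHom_refl, CategoryTheory.Functor.map_id, Category.comp_id]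
  show f.app (g ⁻¹ᵁ V.unop) (evalAt g U a V.unop ⟨p, hp⟩) = evalAt (f ≫ g) U _ V.unop ⟨p, hp⟩
  rcases hp with hVU | ⟨n, rfl⟩
  · simp only [evalAt, RingHom.comp_apply, Subring.subtype_apply, dif_pos hVU]
    rw [← RingHom.comp_apply, MvPolynomial.comp_eval₂Hom]
    refine congrArg (fun F : TRing.{u} →+* Γ(B, f ⁻¹ᵁ (g ⁻¹ᵁ V.unop)) => F p) ?_
    refine congr_arg₂ MvPolynomial.eval₂Hom (RingHom.ext fun n => by simp) (funext fun _ => ?_)
    rw [← CommRingCat.comp_apply, f.naturality, CommRingCat.comp_apply]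
    rfl
  · simp [evalAt]

/-- The variable, as a section of the test space over `U`. -/
def testVar (U : T.Opens) : testSub U U := ⟨MvPolynomial.X PUnit.unit, .inl le_rfl⟩

theorem toTest_var (g : A ⟶ T) (U : T.Opens) (a : Γ(A, g ⁻¹ᵁ U)) :
    evalAt g U a U (testVar U) = a := by
  classical
  simp only [evalAt, testVar, RingHom.comp_apply, Subring.subtype_apply, dif_pos le_rfl]
  rw [MvPolynomial.eval₂Hom_X']
  exact ConcreteCategory.congr_hom (A.presheaf.map_id (op (g ⁻¹ᵁ U))) a

variable {X Y Z : Scheme.{u}} {gX : X ⟶ T} {gY : Y ⟶ T} {fX : Z ⟶ X} {fY : Z ⟶ Y}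

/-- A pushout square of ringed spaces is exact on structure sheaves. -/
theorem exact_of_isPushout (hw : fX ≫ gX = fY ≫ gY)
    (hpo : IsPushout ((Scheme.forgetToLocallyRingedSpace ⋙ LocallyRingedSpace.forgetToSheafedSpace).map fX)
      ((Scheme.forgetToLocallyRingedSpace ⋙ LocallyRingedSpace.forgetToSheafedSpace).map fY)
      ((Scheme.forgetToLocallyRingedSpace ⋙ LocallyRingedSpace.forgetToSheafedSpace).map gX)
      ((Scheme.forgetToLocallyRingedSpace ⋙ LocallyRingedSpace.forgetToSheafedSpace).map gY)) :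
    Exact' gX gY fX fY rfl hw.symm := by
  have hP : IsPushout fX.toPshHom fY.toPshHom gX.toPshHom gY.toPshHom :=
    hpo.map SheafedSpace.forgetToPresheafedSpace
  refine ⟨fun U r h1 h2 => ?_, fun U a b hab => ?_⟩
  · have e : toTest (𝟙 T) U r = toTest (𝟙 T) U 0 := by
      refine hP.hom_ext ?_ ?_
      · rw [comp_toTest, comp_toTest]
        exact congrArg (toTest (gX ≫ 𝟙 T) U) (h1.trans (map_zero (gX.app U).hom).symm)
      · rw [comp_toTest, comp_toTest]
        exact congrArg (toTest (gY ≫ 𝟙 T) U) (h2.trans (map_zero (gY.app U).hom).symm)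
    have e' := ConcreteCategory.congr_hom (PresheafedSpace.congr_app e (op U)) (testVar U)
    refine ((toTest_var (𝟙 T) U r).symm.trans e').trans ?_
    refine (congrArg (T.presheaf.map _) (toTest_var (𝟙 T) U 0)).trans ?_
    exact map_zero (T.presheaf.map _).hom
  · have key : ∀ {h : Z ⟶ T} (k : Z ⟶ T) (e : k = h) (le : h ⁻¹ᵁ U ≤ k ⁻¹ᵁ U) (c : Γ(Z, k ⁻¹ᵁ U)),
        toTest k U c = toTest h U (Z.presheaf.map (homOfLE le).op c) := by
      rintro h k rfl le c
      exact congrArg (toTest k U) (ConcreteCategory.congr_hom (Z.presheaf.map_id (op (k ⁻¹ᵁ U))) c).symm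
    have cond : fX.toPshHom ≫ toTest gX U a = fY.toPshHom ≫ toTest gY U b := by
      rw [comp_toTest, comp_toTest, key (fY ≫ gY) hw.symm (by rw [hw]) (fY.app _ b)]
      refine congrArg (toTest (fX ≫ gX) U) ?_
      have e1 : fX.appLE (gX ⁻¹ᵁ U) ((fX ≫ gX) ⁻¹ᵁ U) le_rfl a = fX.app (gX ⁻¹ᵁ U) a :=
        congrArg (fun q => q a) (Scheme.Hom.app_eq_appLE fX).symm
      exact e1.symm.trans hab
    let m := hP.desc (toTest gX U a) (toTest gY U b) cond
    have hmX : gX.toPshHom ≫ m = toTest gX U a := hP.inl_desc _ _ _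
    have hmY : gY.toPshHom ≫ m = toTest gY U b := hP.inr_desc _ _ _
    have hbase : m.base = 𝟙 _ := (hP.map (PresheafedSpace.forget _)).hom_ext
      (show gX.base ≫ m.base = gX.base ≫ 𝟙 _ by
        rw [Category.comp_id]; exact congrArg (fun n => n.base) hmX)
      (show gY.base ≫ m.base = gY.base ≫ 𝟙 _ by
        rw [Category.comp_id]; exact congrArg (fun n => n.base) hmY)
    obtain ⟨mb, mc⟩ := m
    subst hbase
    refine ⟨mc.app (op U) (testVar U), ?_, ?_⟩
    · have e' := ConcreteCategory.congr_hom (PresheafedSpace.congr_app hmX (op U)) (testVar U)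
      exact (e'.trans (ConcreteCategory.congr_hom (X.presheaf.map_id (op (gX ⁻¹ᵁ U)))
        (evalAt gX U a U (testVar U)))).trans (toTest_var gX U a)
    · have e' := ConcreteCategory.congr_hom (PresheafedSpace.congr_app hmY (op U)) (testVar U)
      exact (e'.trans (ConcreteCategory.congr_hom (Y.presheaf.map_id (op (gY ⁻¹ᵁ U)))
        (evalAt gY U b U (testVar U)))).trans (toTest_var gY U b)

end Groth.L24.DescHom
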